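import Mathlib
import Cfsg.Prelude.Def_Characters
import Cfsg.Agent.Lib.Helper4.Characters
import Cfsg.Agent.Lib.Helper1.CharFound6
import Cfsg.Agent.Lib.Helper1.CharFound1

set_option autoImplicit false

/-!
The irreducible character of degree two of the symmetric group of degree three: it vanishes at the
involutions.
-/
namespace Cfsg.Agent.Lib.Helper5.OBN

open Matrix
open scoped ComplexConjugate

/-- The matrices of the two dimensional representation of the symmetric group of degree three. -/
def s3M (σ : Equiv.Perm (Fin 3)) : Matrix (Fin 2) (Fin 2) ℤ :=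
  Matrix.of fun k j => (if σ j.castSucc = k.castSucc then 1 else 0)
    - (if σ 2 = k.castSucc then 1 else 0)

theorem s3M_one : s3M 1 = 1 := by decide

theorem s3M_mul : ∀ σ τ : Equiv.Perm (Fin 3), s3M (σ * τ) = s3M σ * s3M τ := by decide

theorem s3M_trace_sq : ∑ σ : Equiv.Perm (Fin 3), (s3M σ).trace * (s3M σ).trace = 6 := by decide

theorem s3M_trace_one : (s3M 1).trace = 2 := by decide

theorem s3M_trace_invol : ∀ σ : Equiv.Perm (Fin 3), σ ≠ 1 → σ * σ = 1 → (s3M σ).trace = 0 := by
  decide

/-- The two dimensional representation of the symmetric group of degree three. -/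
noncomputable def s3Rep : Representation ℂ (Equiv.Perm (Fin 3)) (Fin 2 → ℂ) where
  toFun σ := Matrix.toLin' ((Int.castRingHom ℂ).mapMatrix (s3M σ))
  map_one' := by
    rw [s3M_one, map_one, Matrix.toLin'_one]
    rfl
  map_mul' σ τ := by
    rw [s3M_mul, map_mul, Matrix.toLin'_mul]
    rfl

theorem s3Rep_character (σ : Equiv.Perm (Fin 3)) :
    s3Rep.character σ = ((s3M σ).trace : ℤ) := by
  rw [Cfsg.Agent.Lib.Helper4.character_eq_trace_repMat]
  unfold Cfsg.Agent.Lib.Helper4.repMat
  show (LinearMap.toMatrix' (Matrix.toLin' ((Int.castRingHom ℂ).mapMatrix (s3M σ)))).trace = _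
  rw [LinearMap.toMatrix'_toLin']
  simp [Matrix.trace]

theorem s3_norm : Cfsg.classInner s3Rep.character s3Rep.character = 1 := by
  rw [Cfsg.Agent.Lib.Helper4.classInner_def]
  have h1 : ∑ σ : Equiv.Perm (Fin 3), s3Rep.character σ * conj (s3Rep.character σ)
      = ((∑ σ : Equiv.Perm (Fin 3), (s3M σ).trace * (s3M σ).trace : ℤ) : ℂ) := by
    push_cast
    apply Finset.sum_congr rfl
    intro σ _
    rw [s3Rep_character, map_intCast]
  rw [h1, s3M_trace_sq, Nat.card_eq_fintype_card, Fintype.card_perm, Fintype.card_fin]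
  norm_num [Nat.factorial]

theorem s3_irr : Cfsg.IsIrrCharacter (Equiv.Perm (Fin 3)) s3Rep.character :=
  Cfsg.Agent.Lib.Helper1.isIrrCharacter_of_norm_one
    (Cfsg.Agent.Lib.Helper1.isCharacter_character s3Rep) s3_norm

theorem s3_char_one : s3Rep.character 1 = 2 := by
  rw [s3Rep_character, s3M_trace_one]
  norm_num

theorem s3_char_invol (σ : Equiv.Perm (Fin 3)) (h1 : σ ≠ 1) (h2 : σ * σ = 1) :
    s3Rep.character σ = 0 := by
  rw [s3Rep_character, s3M_trace_invol σ h1 h2]
  norm_num

end Cfsg.Agent.Lib.Helper5.OBN
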