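import Mathlib
import Cfsg.Agent.Lib.Helper5.OBN.S3Char
import Cfsg.Agent.Lib.Helper1.CharFound7

set_option autoImplicit false

/-!
A group containing the direct product of two symmetric groups of degree three as a subgroup of
index two, whose factors are interchanged by an element: the quotient of its commutator subgroup by
its centre has an irreducible character of degree two vanishing at the nontrivial elements of its
Sylow `2`-subgroups, which have order two.
-/

namespace Cfsg.Agent.Lib.Helper5.OBN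

open scoped commutatorElement

/-- The symmetric group of degree three. -/
abbrev S3 := Equiv.Perm (Fin 3)

/-- The product of the signs. -/
def eps : S3 × S3 →* ℤˣ :=
  (Equiv.Perm.sign.comp (MonoidHom.fst S3 S3)) * (Equiv.Perm.sign.comp (MonoidHom.snd S3 S3))

theorem eps_apply (x : S3 × S3) : eps x = Equiv.Perm.sign x.1 * Equiv.Perm.sign x.2 := rfl

theorem eps_swap (x : S3 × S3) : eps x.swap = eps x := by
  rw [eps_apply, eps_apply, Prod.fst_swap, Prod.snd_swap, mul_comm]

theorem s3_pow_three : ∀ τ : S3, Equiv.Perm.sign τ = 1 → τ ^ 3 = 1 := by decide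

theorem s3_center : ∀ s : S3, (∀ t : S3, s * t = t * s) → s = 1 := by decide

theorem units_word₁ : ∀ u v : ℤˣ, u * v * u⁻¹ * v⁻¹ = 1 := by decide

theorem units_word₄ : ∀ u v : ℤˣ, u * (v * u⁻¹) * v⁻¹ = 1 := by decide

theorem card_eps_ker : Nat.card eps.ker = 18 := by
  rw [Nat.card_eq_fintype_card]
  decide

section
variable {G : Type*} [Group G] (ψ : S3 × S3 →* G) (g₀ : G)

/-- The image of the pairs of permutations of the same sign. -/
def KW : Subgroup G := (eps.ker).map ψ

variable {ψ g₀}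

theorem hconj' (hconj : ∀ x : S3 × S3, g₀ * ψ x * g₀⁻¹ = ψ x.swap) (x : S3 × S3) :
    g₀⁻¹ * ψ x * g₀ = ψ x.swap := by
  have := hconj x.swap
  rw [Prod.swap_swap] at this
  rw [← this]
  group

theorem mem_KW {w : S3 × S3} (hw : eps w = 1) : ψ w ∈ KW ψ :=
  Subgroup.mem_map.2 ⟨w, MonoidHom.mem_ker.2 hw, rfl⟩

/-- The commutators lie in the image of the pairs of permutations of the same sign. -/
theorem commutator_mem_KW (hcov : ∀ g : G, g ∈ ψ.range ∨ g * g₀ ∈ ψ.range)
    (hconj : ∀ x : S3 × S3, g₀ * ψ x * g₀⁻¹ = ψ x.swap) (a b : G) : ⁅a, b⁆ ∈ KW ψ := by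
  have hform : ∀ g : G, ∃ x : S3 × S3, g = ψ x ∨ g = ψ x * g₀⁻¹ := by
    intro g
    rcases hcov g with ⟨x, hx⟩ | ⟨x, hx⟩
    · exact ⟨x, Or.inl hx.symm⟩
    · refine ⟨x, Or.inr ?_⟩
      rw [hx]
      group
  have hc := hconj' hconj
  obtain ⟨x, hx⟩ := hform a
  obtain ⟨y, hy⟩ := hform b
  rcases hx with rfl | rfl <;> rcases hy with rfl | rfl
  · rw [← map_commutatorElement]
    apply mem_KW
    rw [map_commutatorElement, commutatorElement_def]
    exact units_word₁ _ _
  · have e : ⁅ψ x, ψ y * g₀⁻¹⁆ = ψ x * ψ y * (g₀⁻¹ * ψ x⁻¹ * g₀) * ψ y⁻¹ := by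
      rw [commutatorElement_def, map_inv, map_inv]
      group
    rw [e, hc, ← map_mul, ← map_mul, ← map_mul]
    apply mem_KW
    rw [map_mul, map_mul, map_mul, eps_swap, map_inv, map_inv]
    exact units_word₁ _ _
  · have e : ⁅ψ x * g₀⁻¹, ψ y⁆ = ψ x * (g₀⁻¹ * ψ y * g₀) * ψ x⁻¹ * ψ y⁻¹ := by
      rw [commutatorElement_def, map_inv, map_inv]
      group
    rw [e, hc, ← map_mul, ← map_mul, ← map_mul]
    apply mem_KW
    rw [map_mul, map_mul, map_mul, eps_swap, map_inv, map_inv]
    exact units_word₁ _ _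
  · have e : ⁅ψ x * g₀⁻¹, ψ y * g₀⁻¹⁆ = ψ x * (g₀⁻¹ * ψ (y * x⁻¹) * g₀) * ψ y⁻¹ := by
      rw [commutatorElement_def, map_mul, map_inv, map_inv]
      group
    rw [e, hc, ← map_mul, ← map_mul]
    apply mem_KW
    rw [map_mul, map_mul, eps_swap, map_mul, map_inv, map_inv]
    exact units_word₄ _ _

theorem commutator_le_KW (hcov : ∀ g : G, g ∈ ψ.range ∨ g * g₀ ∈ ψ.range)
    (hconj : ∀ x : S3 × S3, g₀ * ψ x * g₀⁻¹ = ψ x.swap) : commutator G ≤ KW ψ := by
  rw [commutator_def, Subgroup.commutator_le]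
  intro a _ b _
  exact commutator_mem_KW hcov hconj a b

theorem KW_le_range : KW ψ ≤ ψ.range := Subgroup.map_le_range _ _

theorem card_KW (hψ : Function.Injective ψ) : Nat.card (KW ψ) = 18 := by
  unfold KW
  rw [Subgroup.card_map_of_injective hψ, card_eps_ker]

end

end Cfsg.Agent.Lib.Helper5.OBN
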