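import Mathlib
import Cfsg.Agent.Lib.Helper5.OBN.WreathOmega

set_option autoImplicit false

/-!
A group containing the direct product of two symmetric groups of degree three as a subgroup of
index two, whose factors are interchanged by an element: the projection of the commutator subgroup
to the first factor, and the character of degree two.
-/

namespace Cfsg.Agent.Lib.Helper5.OBN

open scoped commutatorElement

section
variable {G : Type*} [Group G] {ψ : S3 × S3 →* G} {g₀ : G}

/-- The projection of the commutator subgroup to the first factor. -/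
noncomputable def thetaW (hψ : Function.Injective ψ) (hle : commutator G ≤ ψ.range) :
    ↥(commutator G) →* S3 :=
  ((MonoidHom.fst S3 S3).comp (MonoidHom.ofInjective hψ).symm.toMonoidHom).comp
    (Subgroup.inclusion hle)

theorem thetaW_apply (hψ : Function.Injective ψ) (hle : commutator G ≤ ψ.range)
    (g : ↥(commutator G)) (x : S3 × S3) (h : (g : G) = ψ x) : thetaW hψ hle g = x.1 := by
  have h1 : (MonoidHom.ofInjective hψ).symm (Subgroup.inclusion hle g) = x := by
    rw [MulEquiv.symm_apply_eq]
    apply Subtype.ext
    rw [MonoidHom.ofInjective_apply]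
    exact h
  show ((MonoidHom.ofInjective hψ).symm (Subgroup.inclusion hle g)).1 = x.1
  rw [h1]

variable (hψ : Function.Injective ψ) (hcov : ∀ g : G, g ∈ ψ.range ∨ g * g₀ ∈ ψ.range)
  (hconj : ∀ x : S3 × S3, g₀ * ψ x * g₀⁻¹ = ψ x.swap)

include hcov hconj in
theorem commutator_le_range : commutator G ≤ ψ.range :=
  (commutator_le_KW hcov hconj).trans KW_le_range

include hcov hconj in
theorem thetaW_surjective :
    Function.Surjective (thetaW hψ (commutator_le_range hcov hconj)) := by
  intro σ
  have hmem : ⁅g₀, ψ (σ⁻¹, 1)⁆ ∈ commutator G := by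
    rw [commutator_def]
    exact Subgroup.commutator_mem_commutator (Subgroup.mem_top _) (Subgroup.mem_top _)
  refine ⟨⟨_, hmem⟩, ?_⟩
  have e : ⁅g₀, ψ (σ⁻¹, 1)⁆ = ψ (σ, σ⁻¹) := by
    rw [commutatorElement_def, hconj, ← map_inv, ← map_mul]
    congr 1
  exact thetaW_apply hψ _ ⟨_, hmem⟩ (σ, σ⁻¹) e

include hcov hconj in
/-- The elements of the kernel of the projection have order dividing three. -/
theorem pow_three_of_thetaW (g : ↥(commutator G))
    (h : thetaW hψ (commutator_le_range hcov hconj) g = 1) : g ^ 3 = 1 := by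
  obtain ⟨w, hw, hwg⟩ := Subgroup.mem_map.1 (commutator_le_KW hcov hconj g.2)
  have h1 := thetaW_apply hψ (commutator_le_range hcov hconj) g w hwg.symm
  rw [h] at h1
  have h2 : eps w = 1 := MonoidHom.mem_ker.1 hw
  rw [eps_apply, ← h1, map_one, one_mul] at h2
  have h3 : w ^ 3 = 1 := by
    ext : 1
    · rw [Prod.pow_fst, ← h1, one_pow]
      rfl
    · rw [Prod.pow_snd, s3_pow_three _ h2]
      rfl
  apply Subtype.ext
  rw [Subgroup.coe_pow, ← hwg, ← map_pow, h3, map_one]
  rfl

include hcov hconj in
theorem center_le_ker :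
    Subgroup.center ↥(commutator G) ≤ (thetaW hψ (commutator_le_range hcov hconj)).ker := by
  intro z hz
  rw [MonoidHom.mem_ker]
  apply s3_center
  intro t
  obtain ⟨g, rfl⟩ := thetaW_surjective hψ hcov hconj t
  rw [← map_mul, ← map_mul, Subgroup.mem_center_iff.1 hz g]

/-- The projection on the quotient by the centre. -/
noncomputable def thetaBar :
    ↥(commutator G) ⧸ Subgroup.center ↥(commutator G) →* S3 :=
  QuotientGroup.lift _ (thetaW hψ (commutator_le_range hcov hconj)) (center_le_ker hψ hcov hconj)

theorem thetaBar_mk (g : ↥(commutator G)) :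
    thetaBar hψ hcov hconj (g : ↥(commutator G) ⧸ Subgroup.center ↥(commutator G))
      = thetaW hψ (commutator_le_range hcov hconj) g := rfl

theorem thetaBar_surjective : Function.Surjective (thetaBar hψ hcov hconj) := by
  intro σ
  obtain ⟨g, hg⟩ := thetaW_surjective hψ hcov hconj σ
  exact ⟨(g : ↥(commutator G) ⧸ Subgroup.center ↥(commutator G)), hg⟩

end

end Cfsg.Agent.Lib.Helper5.OBN
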