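import Mathlib
import Cfsg.Agent.Lib.Helper5.OBN.WreathOmega2

set_option autoImplicit false

/-!
A group containing the direct product of two symmetric groups of degree three as a subgroup of
index two, whose factors are interchanged by an element: the character of degree two of the
quotient of the commutator subgroup by its centre.
-/

namespace Cfsg.Agent.Lib.Helper5.OBN

open scoped commutatorElement

universe u

theorem exists_char_wreath {G : Type u} [Group G] [Finite G] {ψ : S3 × S3 →* G} {g₀ : G}
    (hψ : Function.Injective ψ) (hcov : ∀ g : G, g ∈ ψ.range ∨ g * g₀ ∈ ψ.range)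
    (hconj : ∀ x : S3 × S3, g₀ * ψ x * g₀⁻¹ = ψ x.swap) :
    ∃ χ : (↥(commutator G) ⧸ Subgroup.center ↥(commutator G)) → ℂ,
      Cfsg.IsIrrCharacter (↥(commutator G) ⧸ Subgroup.center ↥(commutator G)) χ ∧
      ∀ P : Sylow 2 (↥(commutator G) ⧸ Subgroup.center ↥(commutator G)), χ 1 = Nat.card P ∧
        ∀ x : ↥(commutator G) ⧸ Subgroup.center ↥(commutator G), x ∈ P → x ≠ 1 → χ x = 0 := by
  have hsurj := thetaBar_surjective hψ hcov hconj
  refine ⟨fun x => s3Rep.character (thetaBar hψ hcov hconj x), ?_, ?_⟩
  · obtain ⟨n, ρ, hirr, hρ⟩ := s3_irr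
    refine ⟨n, ρ.comp (thetaBar hψ hcov hconj),
      Cfsg.Agent.Lib.Helper1.isIrreducible_comp_surjective ρ hirr _ hsurj, ?_⟩
    funext x
    show ρ.character (thetaBar hψ hcov hconj x) = _
    rw [hρ]
  · intro P
    -- the order of the group
    have h18 : Nat.card (↥(commutator G) ⧸ Subgroup.center ↥(commutator G)) ∣ 18 := by
      have h1 := Subgroup.card_dvd_of_le (commutator_le_KW hcov hconj)
      rw [card_KW hψ] at h1
      exact (Subgroup.card_quotient_dvd_card _).trans h1
    have h6 : 6 ∣ Nat.card (↥(commutator G) ⧸ Subgroup.center ↥(commutator G)) := by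
      have := Subgroup.card_dvd_of_surjective (thetaBar hψ hcov hconj) hsurj
      rw [Nat.card_eq_fintype_card, Fintype.card_perm, Fintype.card_fin] at this
      exact this
    -- the order of the Sylow subgroup
    have hP2 : 2 ∣ Nat.card P := P.dvd_card_of_dvd_card (dvd_trans (by norm_num) h6)
    obtain ⟨n, hn⟩ := IsPGroup.exists_card_eq P.isPGroup'
    have hPd : Nat.card P ∣ 18 := (Subgroup.card_subgroup_dvd_card _).trans h18
    have hcardP : Nat.card P = 2 := by
      rw [hn] at hP2 hPd ⊢
      rcases n with _ | _ | n
      · norm_num at hP2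
      · norm_num
      · exfalso
        have : (4 : ℕ) ∣ 18 := by
          refine dvd_trans ?_ hPd
          rw [pow_succ, pow_succ]
          exact ⟨2 ^ n, by ring⟩
        omega
    refine ⟨?_, ?_⟩
    · show s3Rep.character (thetaBar hψ hcov hconj 1) = _
      rw [map_one, s3_char_one, hcardP]
      norm_num
    · intro x hx hx1
      have hx2 : x ^ 2 = 1 := by
        have := pow_card_eq_one' (G := ↥(P : Subgroup _)) (x := ⟨x, hx⟩)
        rw [hcardP] at this
        exact congrArg Subtype.val this
      show s3Rep.character (thetaBar hψ hcov hconj x) = 0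
      apply s3_char_invol
      · intro hs
        apply hx1
        obtain ⟨g, rfl⟩ := QuotientGroup.mk_surjective x
        rw [thetaBar_mk] at hs
        have h3 := pow_three_of_thetaW hψ hcov hconj g hs
        have hx3 : (g : ↥(commutator G) ⧸ Subgroup.center ↥(commutator G)) ^ 3 = 1 := by
          rw [← QuotientGroup.mk_pow, h3]
          rfl
        have e : (g : ↥(commutator G) ⧸ Subgroup.center ↥(commutator G))
            = (g : ↥(commutator G) ⧸ Subgroup.center ↥(commutator G)) ^ 3
              * ((g : ↥(commutator G) ⧸ Subgroup.center ↥(commutator G)) ^ 2)⁻¹ := by group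
        rw [e, hx3, hx2]
        group
      · rw [← map_mul, ← pow_two, hx2, map_one]

end Cfsg.Agent.Lib.Helper5.OBN
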