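import Mathlib
import Cfsg.Agent.S2566
import Cfsg.Agent.Lib.Helper5.IsoCongr
import Cfsg.Agent.Lib.Helper5.OBN.WreathOmega3

set_option autoImplicit false

/-!
The four dimensional orthogonal group of plus type over the field with two elements: the
character of degree two of the quotient of its commutator subgroup by its centre.
-/

namespace Cfsg.Agent.Lib.Helper5.OBN

open Matrix Cfsg.Agent.S2566

theorem gSw_mul_self : gSw * gSw = 1 := by
  apply OO_ext
  rw [OO_coe_mul]
  exact Sw_mul_Sw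

theorem gSw_inv : gSw⁻¹ = gSw := inv_eq_of_mul_eq_one_left gSw_mul_self

theorem gSw_conj_B (σ : Equiv.Perm (Fin 3)) : gSw * phiB σ * gSw⁻¹ = phiA σ := by
  rw [← gSw_conj σ]
  have e : gSw * (gSw * phiA σ * gSw⁻¹) * gSw⁻¹ = (gSw * gSw) * phiA σ * (gSw * gSw)⁻¹ := by
    group
  rw [e, gSw_mul_self]
  group

theorem psi_apply (x : S3 × S3) : psi x = phiA x.1 * phiB x.2 :=
  MonoidHom.noncommCoprod_apply _ _ _ _

theorem gSw_conj_psi (x : S3 × S3) : gSw * psi x * gSw⁻¹ = psi x.swap := by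
  rw [psi_apply, psi_apply, Prod.fst_swap, Prod.snd_swap]
  have e : gSw * (phiA x.1 * phiB x.2) * gSw⁻¹
      = (gSw * phiA x.1 * gSw⁻¹) * (gSw * phiB x.2 * gSw⁻¹) := by group
  rw [e, gSw_conj, gSw_conj_B]
  exact ((phi_comm x.2 x.1).eq).symm

theorem index_psi_range : psi.range.index = 2 := by
  have := psi.range.card_mul_index
  rw [card_psi_range, card_OO] at this
  omega

theorem cov_OO (g : OO) : g ∈ psi.range ∨ g * gSw ∈ psi.range := by
  by_cases h : g ∈ psi.range
  · exact Or.inl h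
  · right
    rw [Subgroup.mul_mem_iff_of_index_two index_psi_range]
    exact ⟨fun h1 => absurd h1 h, fun h1 => absurd h1 gSw_not_mem⟩

section
variable {F : Type*} [Field F] [Fintype F]

theorem quadFormPlus_comp (φ : F ≃+* ZMod 2) (v : Fin 2 ⊕ Fin 2 → F) :
    Cfsg.quadFormPlus 2 (ZMod 2) (φ ∘ v) = φ (Cfsg.quadFormPlus 2 F v) := by
  unfold Cfsg.quadFormPlus
  rw [map_sum]
  apply Finset.sum_congr rfl
  intro i _
  rw [map_mul]
  rfl

/-- The isomorphism with the group over the prime field. -/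
noncomputable def isoFour (hF : Fintype.card F = 2) :
    ↥(Cfsg.isometryGroup F (Cfsg.quadFormPlus 2 F)) ≃* OO :=
  Cfsg.Agent.Lib.Helper5.IsoCongr.isoCongr (ZMod.ringEquivOfPrime F Nat.prime_two hF).symm _ _
    (quadFormPlus_comp _)

theorem exists_char_plus_four (hF : Fintype.card F = 2) :
    ∃ χ : Cfsg.POmega F (Cfsg.quadFormPlus 2 F) → ℂ,
      Cfsg.IsIrrCharacter (Cfsg.POmega F (Cfsg.quadFormPlus 2 F)) χ ∧
      ∀ P : Sylow 2 (Cfsg.POmega F (Cfsg.quadFormPlus 2 F)), χ 1 = Nat.card P ∧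
        ∀ x : Cfsg.POmega F (Cfsg.quadFormPlus 2 F), x ∈ P → x ≠ 1 → χ x = 0 := by
  set e := isoFour hF with he
  apply exists_char_wreath (ψ := e.symm.toMonoidHom.comp psi) (g₀ := e.symm gSw)
  · exact e.symm.injective.comp psi_injective
  · intro g
    rcases cov_OO (e g) with ⟨x, hx⟩ | ⟨x, hx⟩
    · left
      refine ⟨x, ?_⟩
      show e.symm (psi x) = g
      rw [hx, MulEquiv.symm_apply_apply]
    · right
      refine ⟨x, ?_⟩
      show e.symm (psi x) = g * e.symm gSw
      rw [hx, map_mul, MulEquiv.symm_apply_apply]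
  · intro x
    show e.symm gSw * e.symm (psi x) * (e.symm gSw)⁻¹ = e.symm (psi x.swap)
    rw [← gSw_conj_psi, map_mul, map_mul, map_inv]

end

end Cfsg.Agent.Lib.Helper5.OBN
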