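import Mathlib
import Cfsg.Agent.Lib.Helper5.OBN.FinalPlus
import Cfsg.Agent.Lib.Helper5.OBN.PlusFour

set_option autoImplicit false

/-!
The Steinberg character of the even dimensional orthogonal groups of plus type over the finite
fields.
-/

namespace Cfsg.Agent.Lib.Helper5.OBN

/-- The Steinberg character of the even dimensional orthogonal groups of plus type. -/
theorem exists_steinberg_POmegaPlus {F : Type*} [Field F] [Fintype F] (p : ℕ)
    [Fact p.Prime] [CharP F p] (m : ℕ) (hm : 1 ≤ m) :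
    ∃ χ : Cfsg.POmega F (Cfsg.quadFormPlus m F) → ℂ,
      Cfsg.IsIrrCharacter (Cfsg.POmega F (Cfsg.quadFormPlus m F)) χ ∧
      ∀ P : Sylow p (Cfsg.POmega F (Cfsg.quadFormPlus m F)), χ 1 = Nat.card P ∧
        ∀ x : Cfsg.POmega F (Cfsg.quadFormPlus m F), x ∈ P → x ≠ 1 → χ x = 0 := by
  by_cases hmq : m ≠ 2 ∨ Fintype.card F ≠ 2
  · exact exists_steinberg_POmegaPlus_generic p m hm hmq
  · push_neg at hmq
    obtain ⟨rfl, hF⟩ := hmq
    have hp : p = 2 := by
      have h1 : ((Fintype.card F : ℕ) : F) = 0 := Nat.cast_card_eq_zero F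
      rw [hF, CharP.cast_eq_zero_iff F p] at h1
      exact (Nat.prime_dvd_prime_iff_eq (Fact.out : p.Prime) Nat.prime_two).1 h1
    subst hp
    exact exists_char_plus_four hF

end Cfsg.Agent.Lib.Helper5.OBN
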